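import Mathlib
import Groth.Prelude.Def_Found
import Groth.Agent.NagataDesc.Basic

/-!
Approximation of a unit by polynomials in the uniformizer with `p`-th power coefficients in a Nagata DVR.
-/

set_option linter.all false

universe u

open Polynomial IsLocalRing

namespace EtRamInsep

variable {p : ℕ} [hp : Fact p.Prime] {B L M : Type u} [CommRing B] [IsDomain B] [IsDiscreteValuationRing B] [CharP B p]
  [Field L] [Algebra B L] [IsFractionRing B L] [Field M] [Algebra L M] [Algebra B M] [IsScalarTower B L M]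

/-- `u` is not a limit of polynomials in `π` with `p`-th power coefficients. -/
lemma exists_bound (hB : CAlg.IsNagata B) (hdeg : Module.finrank L M = p) (π : B) (hπ : Irreducible π) (u : B) (t : M)
    (ht : t ^ p = algebraMap B M (u * π)) (htL : t ∉ Set.range (algebraMap L M))
    (hπM : ∀ c : M, c ^ p ≠ algebraMap B M π) :
    ∃ N : ℕ, ∀ P : B[X], ¬ π ^ N ∣ u - (P.map (frobenius B p)).eval π := by
  classical
  haveI : FiniteDimensional L M := FiniteDimensional.of_finrank_pos (by rw [hdeg]; exact hp.out.pos)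
  haveI hirr : Fact (Irreducible (X ^ p - C (algebraMap B M π) : M[X])) :=
    ⟨X_pow_sub_C_irreducible_of_prime hp.out hπM⟩
  let F := AdjoinRoot (X ^ p - C (algebraMap B M π) : M[X])
  let ρ : F := AdjoinRoot.root _
  haveI : Module.Finite M F := (monic_X_pow_sub_C _ hp.out.ne_zero).finite_adjoinRoot
  haveI : Module.Finite L F := Module.Finite.trans M F
  have hρ : ρ ^ p = algebraMap B F π := by
    have h := AdjoinRoot.eval₂_root (X ^ p - C (algebraMap B M π) : M[X])
    rw [eval₂_sub, eval₂_pow, eval₂_X, eval₂_C, sub_eq_zero] at h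
    rw [h, ← AdjoinRoot.algebraMap_eq, ← IsScalarTower.algebraMap_apply]
  have hinjM : Function.Injective (algebraMap B M) := by
    rw [IsScalarTower.algebraMap_eq B L M]; exact (algebraMap L M).injective.comp (IsFractionRing.injective B L)
  have hinjF : Function.Injective (algebraMap B F) := by
    rw [IsScalarTower.algebraMap_eq B M F]; exact (algebraMap M F).injective.comp hinjM
  have hρ0 : ρ ≠ 0 := fun h => by
    rw [h, zero_pow hp.out.ne_zero] at hρ
    exact hπ.ne_zero ((map_eq_zero_iff _ hinjF).mp hρ.symm)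
  let η : F := algebraMap M F t / ρ
  have hη : η ^ p = algebraMap B F u := by
    simp only [η]
    rw [div_pow, hρ, ← map_pow, ht, ← IsScalarTower.algebraMap_apply B M F, map_mul,
      mul_div_cancel_right₀ _ (fun h => hπ.ne_zero ((map_eq_zero_iff _ hinjF).mp h))]
  -- η is not in L[ρ]
  let V : Submodule L F := Subalgebra.toSubmodule (Algebra.adjoin L {ρ})
  have hρL : IsIntegral L ρ := .of_finite L ρ
  have hηV : η ∉ V := by
    intro hmem
    have h1 : algebraMap M F t ∈ IntermediateField.adjoin L {ρ} := by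
      have h2 : ρ * η ∈ Algebra.adjoin L {ρ} := mul_mem (Algebra.self_mem_adjoin_singleton L ρ) hmem
      rw [mul_div_cancel₀ _ hρ0] at h2
      exact IntermediateField.algebra_adjoin_le_adjoin L _ h2
    have h2 : IntermediateField.adjoin L {algebraMap M F t} ≤ IntermediateField.adjoin L {ρ} :=
      IntermediateField.adjoin_simple_le_iff.mpr h1
    have hπL : IsIntegral L ρ := hρL
    have hd1 : Module.finrank L (IntermediateField.adjoin L {ρ}) ≤ p := by
      rw [IntermediateField.adjoin.finrank hρL]
      refine le_trans (natDegree_le_of_dvd (minpoly.dvd L ρ ?_) (monic_X_pow_sub_C (algebraMap B L π) hp.out.ne_zero).ne_zero) (natDegree_X_pow_sub_C).le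
      rw [map_sub, map_pow, aeval_X, aeval_C, hρ, ← IsScalarTower.algebraMap_apply, sub_self]
    have hd2 : Module.finrank L (IntermediateField.adjoin L {algebraMap M F t}) = p := by
      have hp' : (Module.finrank L M).Prime := hdeg ▸ hp.out
      rw [IntermediateField.adjoin.finrank (IsIntegral.of_finite L _), minpoly.algebraMap_eq (algebraMap M F).injective,
        ← IntermediateField.adjoin.finrank (IsIntegral.of_finite L t)]
      haveI := IntermediateField.isSimpleOrder_of_finrank_prime L M hp'
      rcases eq_bot_or_eq_top (IntermediateField.adjoin L {t}) with h | h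
      · exact absurd (IntermediateField.mem_bot.mp (h ▸ IntermediateField.mem_adjoin_simple_self L t)) htL
      · rw [h, IntermediateField.finrank_top', hdeg]
    have heq := IntermediateField.eq_of_le_of_finrank_le h2 (hd2.symm ▸ hd1)
    have h3 : ρ ∈ IntermediateField.adjoin L {algebraMap M F t} := heq ▸ IntermediateField.mem_adjoin_simple_self L ρ
    have h4 : IntermediateField.adjoin L {algebraMap M F t} ≤ (IsScalarTower.toAlgHom L M F).fieldRange :=
      IntermediateField.adjoin_simple_le_iff.mpr ⟨t, rfl⟩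
    obtain ⟨c, hc⟩ := h4 h3
    refine hπM c ((algebraMap M F).injective ?_)
    rw [map_pow, ← IsScalarTower.algebraMap_apply, ← hρ]
    exact congrArg (· ^ p) hc
  obtain ⟨ψ₀, hψ₀η, hψ₀V⟩ := Submodule.exists_dual_map_eq_bot_of_notMem hηV inferInstance
  let ψ : F →ₗ[L] L := (ψ₀ η)⁻¹ • ψ₀
  have hψη : ψ η = 1 := inv_mul_cancel₀ hψ₀η
  have hψV : ∀ x ∈ V, ψ x = 0 := fun x hx => by
    have : ψ₀ x = 0 := (Submodule.mem_bot L).mp (hψ₀V ▸ Submodule.mem_map_of_mem hx)
    show (ψ₀ η)⁻¹ * ψ₀ x = 0
    rw [this, mul_zero]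
  -- finiteness of the integral closure
  haveI : Algebra.EssFiniteType B L := Algebra.EssFiniteType.of_isLocalization L (nonZeroDivisors B)
  haveI : Algebra.EssFiniteType B F := Algebra.EssFiniteType.comp B L F
  have hfin : Module.Finite B (integralClosure B F) :=
    Groth.Agent.NagataDesc.finite_integralClosure_field hB F fun x => by
      obtain ⟨f, hf, hfx⟩ := (IsFractionRing.isAlgebraic_iff B L F).mpr (IsAlgebraic.of_finite L x)
      exact ⟨f, (Polynomial.map_ne_zero_iff hinjF).mpr hf, hfx⟩
  let φ : integralClosure B F →ₗ[B] L := (ψ.restrictScalars B).comp (integralClosure B F).val.toLinearMap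
  obtain ⟨S', hS'⟩ := Submodule.FG.map φ hfin.fg_top
  obtain ⟨⟨d, hd⟩, hdS⟩ := IsLocalization.exist_integer_multiples_of_finset (nonZeroDivisors B) S'
  have hd0 : d ≠ 0 := nonZeroDivisors.ne_zero hd
  have hint : ∀ x : F, x ∈ integralClosure B F → ∃ b : B, algebraMap B L b = algebraMap B L d * ψ x := by
    intro x hx
    have hmem : φ ⟨x, hx⟩ ∈ Submodule.span B (S' : Set L) := hS' ▸ Submodule.mem_map_of_mem Submodule.mem_top
    have : Submodule.span B (S' : Set L) ≤ (LinearMap.range (Algebra.linearMap B L)).comap ((d : B) • LinearMap.id) :=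
      Submodule.span_le.mpr fun s hs => by
        obtain ⟨b, hb⟩ := hdS s hs
        exact ⟨b, hb⟩
    obtain ⟨b, hb⟩ := this hmem
    exact ⟨b, by rw [← Algebra.smul_def]; exact hb⟩
  obtain ⟨k, ud, hk⟩ := IsDiscreteValuationRing.eq_unit_mul_pow_irreducible hd0 hπ
  refine ⟨p * (k + 1), fun P ⟨b, hb⟩ => ?_⟩
  haveI : CharP F p := charP_of_injective_algebraMap hinjF p
  haveI : ExpChar F p := ExpChar.prime hp.out
  let v : F := aeval ρ P
  have hv : v ^ p = algebraMap B F ((P.map (frobenius B p)).eval π) := by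
    rw [← aeval_algebraMap_apply_eq_algebraMap_eval, ← hρ, aeval_def, eval₂_map, ← frobenius_def]
    simp only [v, aeval_def]
    rw [hom_eval₂]
    refine eval₂_congr (RingHom.ext fun a => ?_) rfl rfl
    simp [frobenius_def]
  let w : F := (η - v) / algebraMap B F π ^ (k + 1)
  have hw : w ^ p = algebraMap B F b := by
    simp only [w]
    rw [div_pow, sub_pow_char, hη, hv, ← map_sub, hb, map_mul, map_pow, ← pow_mul, mul_comm (k + 1) p, mul_comm,
      mul_div_cancel_right₀ _ (pow_ne_zero _ fun h => hπ.ne_zero ((map_eq_zero_iff _ hinjF).mp h))]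
  obtain ⟨b', hb'⟩ := hint w (IsIntegral.of_pow hp.out.pos (by rw [hw]; exact isIntegral_algebraMap))
  have hψv : ψ v = 0 := by
    have : v ∈ V := aeval_mem_adjoin_singleton L ρ |> fun h => by
      rw [show v = aeval ρ (P.map (algebraMap B L)) from (aeval_map_algebraMap L ρ P).symm]; exact h
    exact hψV _ this
  have hπk : algebraMap B F π ^ (k + 1) = algebraMap L F (algebraMap B L π ^ (k + 1)) := by
    rw [map_pow, ← IsScalarTower.algebraMap_apply]
  have hψw : ψ w * algebraMap B L π ^ (k + 1) = ψ η := by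
    have h : w * algebraMap L F (algebraMap B L π ^ (k + 1)) = η - v := by
      rw [← hπk]
      exact div_mul_cancel₀ _ (pow_ne_zero _ fun h => hπ.ne_zero ((map_eq_zero_iff _ hinjF).mp h))
    rw [mul_comm, ← smul_eq_mul, ← map_smul, Algebra.smul_def, mul_comm, h, map_sub, hψv, sub_zero]
  rw [hψη] at hψw
  have h1 : algebraMap B L (b' * π ^ (k + 1)) = algebraMap B L (↑ud * π ^ k) := by
    rw [map_mul, map_pow, hb', hk, mul_assoc, hψw, mul_one]
  have h2 := IsFractionRing.injective B L h1
  rw [pow_succ', ← mul_assoc] at h2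
  exact hπ.not_isUnit (isUnit_of_mul_isUnit_right (x := b') (mul_right_cancel₀ (pow_ne_zero k hπ.ne_zero) h2 ▸ ud.isUnit))

/-- A best approximation: the error term has residue outside the `p`-th powers. -/
lemma exists_approx (hB : CAlg.IsNagata B) (hdeg : Module.finrank L M = p) (π : B) (hπ : Irreducible π) (u : B) (t : M)
    (ht : t ^ p = algebraMap B M (u * π)) (htL : t ∉ Set.range (algebraMap L M))
    (hπM : ∀ c : M, c ^ p ≠ algebraMap B M π) :
    ∃ (m : ℕ) (P : B[X]) (ω : B), u - (P.map (frobenius B p)).eval π = π ^ m * ω ∧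
      ∀ r : ResidueField B, residue B ω ≠ r ^ p := by
  classical
  obtain ⟨N, hN⟩ := exists_bound hB hdeg π hπ u t ht htL hπM
  set m := Nat.findGreatest (fun m => ∃ P : B[X], π ^ m ∣ u - (P.map (frobenius B p)).eval π) N with hm
  obtain ⟨P, hP⟩ : ∃ P : B[X], π ^ m ∣ u - (P.map (frobenius B p)).eval π :=
    Nat.findGreatest_spec (P := fun m => ∃ P : B[X], π ^ m ∣ u - (P.map (frobenius B p)).eval π) (Nat.zero_le N) ⟨0, by simp⟩
  have hlt : m < N := lt_of_le_of_ne (Nat.findGreatest_le N) fun h => hN P (h ▸ hP)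
  have hstop : ∀ P : B[X], ¬ π ^ (m + 1) ∣ u - (P.map (frobenius B p)).eval π := fun Q hQ => by
    have := Nat.le_findGreatest (P := fun m => ∃ P : B[X], π ^ m ∣ u - (P.map (frobenius B p)).eval π) hlt ⟨Q, hQ⟩
    omega
  obtain ⟨ω, hω⟩ := hP
  refine ⟨m, P, ω, hω, fun r hr => ?_⟩
  obtain ⟨r, rfl⟩ := residue_surjective r
  have hmem : ω - r ^ p ∈ maximalIdeal B := by
    rw [← residue_eq_zero_iff, map_sub, map_pow, hr, sub_self]
  rw [(IsDiscreteValuationRing.irreducible_iff_uniformizer π).mp hπ, Ideal.mem_span_singleton] at hmem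
  obtain ⟨s, hs⟩ := hmem
  refine hstop (P + C r * X ^ m) ⟨s, ?_⟩
  rw [Polynomial.map_add, Polynomial.map_mul, map_C, Polynomial.map_pow, map_X, eval_add, eval_mul, eval_C, eval_pow, eval_X,
    frobenius_def, pow_succ]
  linear_combination hω + π ^ m * hs

end EtRamInsep
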