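import Groth.Agent.EtRamBC.Gen
import Groth.Agent.EtRamInsep.Approx

/-!
The valuation ring upstairs after adjoining a root of `z^p + π^(m+2) z - π` to a purely inseparable ramified extension.
-/

set_option linter.all false

universe u

open Polynomial IsLocalRing

namespace EtRamInsep

variable {p : ℕ} [hp : Fact p.Prime] {B : Type u} [CommRing B] [IsDomain B] [IsDiscreteValuationRing B] [CharP B p]

lemma exists_poly (π u ω : B) (m : ℕ) (P : B[X]) (hω : u - (P.map (frobenius B p)).eval π = π ^ m * ω) :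
    ∃ Q Q₂ : B[X],
      C u - (1 - C (π ^ (m + 1)) * X) * ((P.map (frobenius B p)).map C).eval (C π * (1 - C (π ^ (m + 1)) * X)) =
          C (π ^ m) * (C ω + C π * X * Q) ∧
      (1 - C (π ^ (m + 1)) * X) ^ (m + 1) = 1 + X * Q₂ := by
  set Pf := (P.map (frobenius B p)).map C with hPf
  set D : B[X] := 1 - C (π ^ (m + 1)) * X with hD
  obtain ⟨Q₀, hQ₀⟩ := sub_dvd_eval_sub D 1 ((X : B[X][X]) * Pf.comp (C (C π) * X))
  simp only [eval_mul, eval_X, eval_comp, eval_C, mul_one, one_mul] at hQ₀
  have h1 : Pf.eval (C π) = C ((P.map (frobenius B p)).eval π) := by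
    rw [hPf, eval_map, eval₂_at_apply]
  obtain ⟨Q₂, hQ₂⟩ := sub_one_dvd_pow_sub_one D (m + 1)
  refine ⟨Q₀, -C (π ^ (m + 1)) * Q₂, ?_, ?_⟩
  · have h2 : C u - C ((P.map (frobenius B p)).eval π) = C (π ^ m) * C ω := by rw [← C_sub, hω, C_mul]
    rw [h1] at hQ₀
    have hD1 : D - 1 = -(C (π ^ m) * C π * X) := by rw [hD, pow_succ, C_mul]; ring
    rw [hD1] at hQ₀
    linear_combination h2 - hQ₀
  · have hD1 : D - 1 = -(C (π ^ (m + 1)) * X) := by rw [hD]; ring
    rw [hD1] at hQ₂
    linear_combination hQ₂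

variable {N : Type u} [Field N] [Algebra B N]

theorem exists_mem_uniformizer (hinj : Function.Injective (algebraMap B N)) (π : B) (hπ : Irreducible π) (u ω : B) (m : ℕ) (P : B[X])
    (hω : u - (P.map (frobenius B p)).eval π = π ^ m * ω) (hωp : ∀ r : ResidueField B, residue B ω ≠ r ^ p)
    (z s : N) (hz : z ^ p + algebraMap B N π ^ (m + 2) * z = algebraMap B N π) (hs : s ^ p = algebraMap B N (u * π))
    (halg : ∀ x : N, IsAlgebraic B x)
    (hgen : ∀ x : N, ∃ b : B, b ≠ 0 ∧ algebraMap B N b * x ∈ Algebra.adjoin B {z, s})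
    (W : ValuationSubring N) (hW : EtRam.Dominates B (algebraMap B N) W) :
    ∃ hzW : z ∈ W, maximalIdeal W = Ideal.span {(⟨z, hzW⟩ : W)} := by
  classical
  letI : Algebra B W := (RingHom.codRestrict (algebraMap B N) W hW.1).toAlgebra
  haveI : IsScalarTower B W N := IsScalarTower.of_algebraMap_eq fun b => rfl
  have hπW : ¬ IsUnit (algebraMap B W π) := fun h => by
    have h1 := (W.valuation_eq_one_iff _).mp h
    have h2 := hW.2 π (by rw [mem_maximalIdeal]; exact hπ.not_isUnit)
    exact absurd h1 h2.ne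
  haveI : IsLocalHom (algebraMap B W) := by
    refine ⟨fun b hb => ?_⟩
    by_contra hnu
    obtain ⟨c, rfl⟩ : π ∣ b := Ideal.mem_span_singleton.mp
      ((IsDiscreteValuationRing.irreducible_iff_uniformizer π).mp hπ ▸ hnu)
    rw [map_mul] at hb
    exact hπW (isUnit_of_mul_isUnit_left hb)
  have hBW : Function.Injective (algebraMap B W) := fun a b h => hinj (congrArg Subtype.val h)
  haveI : CharP N p := charP_of_injective_algebraMap hinj p
  haveI : ExpChar N p := ExpChar.prime hp.out
  set πN := algebraMap B N π with hπN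
  have hπ0 : πN ≠ 0 := fun h => hπ.ne_zero ((map_eq_zero_iff _ hinj).mp h)
  have memW : ∀ x : N, IsIntegral W x → x ∈ W := fun x hx => by
    obtain ⟨y, rfl⟩ := (IsIntegrallyClosed.isIntegral_iff (R := W) (K := N)).mp hx
    exact y.2
  have hzW : z ∈ W := memW z <| by
    refine (IsIntegral.tower_top (R := B) ⟨X ^ p + (C (π ^ (m + 2)) * X - C π), monic_X_pow_add ?_, ?_⟩)
    · refine lt_of_le_of_lt (degree_sub_le _ _) (max_lt ?_ ?_)
      · exact lt_of_le_of_lt (degree_C_mul_X_le _) (by exact_mod_cast hp.out.one_lt)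
      · exact lt_of_le_of_lt degree_C_le (by exact_mod_cast hp.out.pos)
    · rw [eval₂_add, eval₂_sub, eval₂_mul, eval₂_pow, eval₂_X, eval₂_C, eval₂_C, map_pow]
      linear_combination hz
  set δ := 1 - πN ^ (m + 1) * z with hδ
  have hzp : z ^ p = πN * δ := by rw [hδ]; linear_combination hz
  set zW : W := ⟨z, hzW⟩ with hzWdef
  have hπWm : algebraMap B W π ∈ maximalIdeal W := hπW
  set δW : W := 1 - algebraMap B W π ^ (m + 1) * zW with hδW
  have hδu : IsUnit δW := by
    refine (IsLocalRing.isUnit_or_isUnit_of_add_one (b := algebraMap B W π ^ (m + 1) * zW) (by rw [hδW]; ring)).resolve_right ?_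
    exact fun h => hπW ((isUnit_pow_iff (Nat.succ_ne_zero m)).mp (isUnit_of_mul_isUnit_left h))
  have hδ0 : δ ≠ 0 := fun h => by
    exact hδu.ne_zero (Subtype.ext h)
  have hz0 : z ≠ 0 := fun h => by rw [h, zero_pow hp.out.ne_zero] at hzp; exact mul_ne_zero hπ0 hδ0 hzp.symm
  have hzmW : ¬ IsUnit zW := fun h => by
    have h1 : zW ^ p = algebraMap B W π * δW := Subtype.ext hzp
    exact hπW (isUnit_of_mul_isUnit_left (h1 ▸ h.pow p))
  obtain ⟨Q, Q₂, hQ, hQ₂⟩ := exists_poly π u ω m P hω
  set v := aeval z P with hv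
  have hvp : v ^ p = aeval (πN * δ) (P.map (frobenius B p)) := by
    rw [← hzp, hv, aeval_def, aeval_def, eval₂_map, ← frobenius_def, hom_eval₂]
    exact eval₂_congr (RingHom.ext fun a => by simp [frobenius_def]) (frobenius_def p z) rfl
  have hQz := congrArg (aeval z) hQ
  have hQ₂z := congrArg (aeval z) hQ₂
  simp only [map_sub, map_mul, map_add, map_one, map_pow, aeval_C, aeval_X, ← hπN, ← hδ] at hQz hQ₂z
  have hev : aeval z (((P.map (frobenius B p)).map C).eval (C π * (1 - C π ^ (m + 1) * X))) =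
      aeval (πN * δ) (P.map (frobenius B p)) := by
    rw [eval_map, ← AlgHom.coe_toRingHom, hom_eval₂, aeval_def]
    refine eval₂_congr (RingHom.ext fun a => aeval_C z a) ?_ rfl
    simp [hδ, hπN]
  rw [hev, ← hvp] at hQz
  set ξ := (s / z - v) / z ^ m with hξ
  have hξp : δ ^ (m + 1) * ξ ^ p = algebraMap B N ω + πN * z * aeval z Q := by
    have hη : (s / z) ^ p = algebraMap B N u / δ := by
      rw [div_pow, hs, hzp, map_mul, mul_comm πN δ, ← hπN, mul_div_mul_right _ _ hπ0]
    rw [hξ, div_pow, sub_pow_char (p := p) (s / z) v, hη, ← pow_mul z, mul_comm m p, pow_mul, hzp, mul_pow]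
    rw [mul_div_assoc', div_eq_iff (mul_ne_zero (pow_ne_zero _ hπ0) (pow_ne_zero _ hδ0)), pow_succ]
    linear_combination δ ^ m * hQz + δ ^ m * mul_div_cancel₀ (algebraMap B N u) hδ0
  have hξW : ξ ∈ W := memW ξ <| IsIntegral.of_pow hp.out.pos <| by
    have hmem : δ ^ (m + 1) * ξ ^ p ∈ W := by
      rw [hξp]
      have hQW : aeval z Q ∈ W := by
        rw [aeval_def, eval₂_eq_sum_range]; exact sum_mem fun i _ => mul_mem (hW.1 _) (pow_mem hzW i)
      exact add_mem (hW.1 ω) (mul_mem (mul_mem (hW.1 π) hzW) hQW)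
    obtain ⟨e, he⟩ := hδu
    have h1 : ξ ^ p = ((↑(e⁻¹) : W) : N) ^ (m + 1) * (δ ^ (m + 1) * ξ ^ p) := by
      rw [← mul_assoc, ← mul_pow, show ((↑(e⁻¹) : W) : N) * δ = 1 by
        have := congrArg Subtype.val e.inv_mul
        rw [MulMemClass.coe_mul, he] at this
        exact this, one_pow, one_mul]
    rw [h1]
    exact isIntegral_algebraMap (x := (⟨_, mul_mem (pow_mem (↑(e⁻¹) : W).2 _) hmem⟩ : W))
  set ξW : W := ⟨ξ, hξW⟩ with hξWdef
  -- the presentation
  let ev : B[X] →+* W := (aeval zW).toRingHom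
  have hevN : ∀ q : B[X], ((ev q : W) : N) = aeval z q := fun q => by
    show algebraMap W N (aeval zW q) = _
    rw [← aeval_algebraMap_apply]; rfl
  let θ : B[X][X] →+* W := eval₂RingHom ev ξW
  let k := ResidueField B
  haveI : Fact (Irreducible (X ^ p - C (residue B ω) : k[X])) := ⟨X_pow_sub_C_irreducible_of_prime hp.out fun r h => hωp r h.symm⟩
  let R := AdjoinRoot (X ^ p - C (residue B ω) : k[X])
  let red0 : B[X] →+* R := eval₂RingHom ((AdjoinRoot.of _).comp (residue B)) 0
  let red : B[X][X] →+* R := eval₂RingHom red0 (AdjoinRoot.root _)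
  have hred : Function.Surjective red := by
    intro r
    obtain ⟨q, rfl⟩ := AdjoinRoot.mk_surjective r
    obtain ⟨q, rfl⟩ := Polynomial.map_surjective (residue B) residue_surjective q
    refine ⟨q.map C, ?_⟩
    rw [show red (q.map C) = (q.map C).eval₂ red0 (AdjoinRoot.root _) from rfl, eval₂_map, ← AdjoinRoot.aeval_eq, aeval_def, eval₂_map]
    refine eval₂_congr (RingHom.ext fun a => ?_) rfl rfl
    show (C a).eval₂ _ 0 = _
    rw [eval₂_C]; rfl
  have hres : residue W ξW ^ p = residue W (algebraMap B W ω) := by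
    have h1 : δW ^ (m + 1) * ξW ^ p = algebraMap B W ω + algebraMap B W π * zW * ev Q := Subtype.ext (by
      show δ ^ (m + 1) * ξ ^ p = algebraMap B N ω + πN * z * ((ev Q : W) : N)
      rw [hevN, hξp])
    have h2 : residue W δW = 1 := by
      rw [hδW, map_sub, map_mul, (residue_eq_zero_iff zW).mpr hzmW, mul_zero, sub_zero, map_one]
    have := congrArg (residue W) h1
    rwa [map_mul, map_pow, map_pow, h2, one_pow, one_mul, map_add, map_mul, map_mul, (residue_eq_zero_iff zW).mpr hzmW,
      mul_zero, zero_mul, add_zero] at this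
  have hψ0 : (X ^ p - C (residue B ω) : k[X]).eval₂ (ResidueField.map (algebraMap B W)) (residue W ξW) = 0 := by
    rw [eval₂_sub, eval₂_pow, eval₂_X, eval₂_C, hres, sub_eq_zero]; rfl
  let ψ : R →+* ResidueField W := AdjoinRoot.lift (ResidueField.map (algebraMap B W)) (residue W ξW) hψ0
  have hψ : ∀ t, ψ (red t) = residue W (θ t) := by
    have hh : ψ.comp red = (residue W).comp θ := by
      refine Polynomial.ringHom_ext (fun q => ?_) ?_
      · simp only [RingHom.comp_apply, red, θ, coe_eval₂RingHom, eval₂_C]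
        have h3 : ψ.comp red0 = (residue W).comp ev := by
          refine Polynomial.ringHom_ext (fun a => ?_) ?_
          · simp [ψ, red0, ev]
            exact (AdjoinRoot.lift_of hψ0).trans rfl
          · simp [ψ, red0, ev, (residue_eq_zero_iff zW).mpr hzmW]
        exact RingHom.congr_fun h3 q
      · simp [red, θ, ψ]
        exact AdjoinRoot.lift_root hψ0
    exact fun t => RingHom.congr_fun hh t
  have hker : ∀ t, red t = 0 → ∃ t', θ t = zW * θ t' := by
    let J : Ideal B[X][X] :=
      { carrier := {t | ∃ t', θ t = zW * θ t'}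
        add_mem' := fun {a b} ⟨a', ha⟩ ⟨b', hb⟩ => ⟨a' + b', by rw [map_add, ha, hb, map_add, mul_add]⟩
        zero_mem' := ⟨0, by simp⟩
        smul_mem' := fun c {a} ⟨a', ha⟩ => ⟨c * a', by rw [smul_eq_mul, map_mul, ha, map_mul]; ring⟩ }
    have hθX : θ (C X) = zW := by simp [θ, ev]
    have hXJ : (C X : B[X][X]) ∈ J := ⟨1, by rw [hθX, map_one, mul_one]⟩
    have hπJ : (C (C π) : B[X][X]) ∈ J := ⟨C X ^ (p - 1) + C (C π) ^ (m + 2), Subtype.ext (by
      rw [map_add, map_pow, map_pow, hθX]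
      show algebraMap W N (θ (C (C π))) = algebraMap W N (zW * (zW ^ (p - 1) + θ (C (C π)) ^ (m + 2)))
      have hθπ : θ (C (C π)) = algebraMap B W π := by simp [θ, ev]
      rw [hθπ, map_mul, map_add, map_pow, map_pow, ← IsScalarTower.algebraMap_apply]
      show πN = z * (z ^ (p - 1) + πN ^ (m + 2))
      rw [mul_add, ← pow_succ', Nat.sub_add_cancel hp.out.pos]
      linear_combination -hz)⟩
    have hωJ : (X ^ p - C (C ω) : B[X][X]) ∈ J := ⟨C (C π) * C Q - X ^ p * C Q₂, Subtype.ext (by
      have e1 : θ (X ^ p - C (C ω)) = ξW ^ p - algebraMap B W ω := by simp [θ, ev]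
      have e2 : θ (C (C π) * C Q - X ^ p * C Q₂) = algebraMap B W π * ev Q - ξW ^ p * ev Q₂ := by
        simp [θ, ev]; ring
      rw [e1, e2]
      show ξ ^ p - algebraMap B N ω = z * (πN * ((ev Q : W) : N) - ξ ^ p * ((ev Q₂ : W) : N))
      rw [hevN, hevN]
      linear_combination hξp - ξ ^ p * hQ₂z)⟩
    intro t ht
    have h0 : t - (t.map (evalRingHom 0)).map C ∈ J := by
      rw [← Polynomial.sum_monomial_eq (t - (t.map (evalRingHom 0)).map C), Polynomial.sum_def]
      refine J.sum_mem fun i _ => ?_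
      rw [coeff_sub, coeff_map, coeff_map, coe_evalRingHom]
      obtain ⟨c, hc⟩ : X ∣ t.coeff i - C ((t.coeff i).eval 0) :=
        X_dvd_iff.mpr (by simp [coeff_zero_eq_eval_zero])
      rw [hc, ← C_mul_X_pow_eq_monomial, C_mul, mul_assoc]
      exact J.mul_mem_right _ hXJ
    set q := t.map (evalRingHom 0) with hq
    have hqk : (X ^ p - C (residue B ω) : k[X]) ∣ q.map (residue B) := by
      rw [← AdjoinRoot.mk_eq_zero, ← AdjoinRoot.aeval_eq, aeval_def, eval₂_map, ← ht, hq, eval₂_map]
      refine eval₂_congr (RingHom.ext fun a => ?_) rfl rfl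
      show AdjoinRoot.of _ (residue B (a.eval 0)) = a.eval₂ _ 0
      rw [eval₂_at_zero, coeff_zero_eq_eval_zero]; rfl
    obtain ⟨s₀, hs₀⟩ := hqk
    obtain ⟨s₁, rfl⟩ := Polynomial.map_surjective (residue B) residue_surjective s₀
    have hdvd : C π ∣ q - (X ^ p - C ω) * s₁ := by
      rw [C_dvd_iff_dvd_coeff]
      intro i
      have : residue B ((q - (X ^ p - C ω) * s₁).coeff i) = 0 := by
        rw [← coeff_map, Polynomial.map_sub, Polynomial.map_mul, Polynomial.map_sub, Polynomial.map_pow, map_X, map_C, hs₀,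
          sub_self, coeff_zero]
      rw [residue_eq_zero_iff, (IsDiscreteValuationRing.irreducible_iff_uniformizer π).mp hπ, Ideal.mem_span_singleton] at this
      exact this
    obtain ⟨r, hr⟩ := hdvd
    have h1 : q.map C ∈ J := by
      rw [show q = (X ^ p - C ω) * s₁ + C π * r by linear_combination hr, Polynomial.map_add, Polynomial.map_mul,
        Polynomial.map_sub, Polynomial.map_pow, map_X, map_C, Polynomial.map_mul, map_C]
      exact J.add_mem (J.mul_mem_right _ hωJ) (J.mul_mem_right _ hπJ)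
    have := J.add_mem h0 h1
    rwa [sub_add_cancel] at this
  have hrange : Algebra.adjoin B {z, s} ≤ ({ ((algebraMap W N).comp θ).range with
      algebraMap_mem' := fun b => ⟨C (C b), by simp [θ, ev, ← IsScalarTower.algebraMap_apply]⟩ } : Subalgebra B N) := by
    refine Algebra.adjoin_le ?_
    rintro x (rfl | rfl)
    · exact ⟨C X, by simp [θ, ev, zW]⟩
    · refine ⟨C X * (C P + C X ^ m * X), ?_⟩
      show algebraMap W N (θ _) = x
      have e1 : θ (C X * (C P + C X ^ m * X)) = zW * (ev P + zW ^ m * ξW) := by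
        simp only [θ, ev, map_mul, map_add, map_pow, coe_eval₂RingHom, eval₂_C, eval₂_X, AlgHom.toRingHom_eq_coe, RingHom.coe_coe, aeval_X]
      rw [e1]
      show z * (((ev P : W) : N) + z ^ m * ξ) = x
      rw [hevN, ← hv, hξ]
      field_simp
      ring
  refine ⟨hzW, (EtRamBC.mainGen θ red hred ψ hψ zW hzmW (fun h => hz0 (congrArg Subtype.val h)) hker hBW
    (fun t => (isAlgebraic_algebraMap_iff (FaithfulSMul.algebraMap_injective W N)).mp (halg _)) (fun w => ?_) p π hπ ?_).1⟩
  · obtain ⟨b, hb, hbx⟩ := hgen (w : N)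
    obtain ⟨t, ht⟩ := hrange hbx
    refine ⟨t, C (C b), ?_, Subtype.ext ?_⟩
    · rw [show θ (C (C b)) = algebraMap B W b by simp [θ, ev]]
      exact fun h => hb ((map_eq_zero_iff _ hBW).mp h)
    · show (w : N) * ((θ (C (C b)) : W) : N) = algebraMap W N (θ t)
      rw [show θ (C (C b)) = algebraMap B W b by simp [θ, ev]]
      rw [← RingHom.comp_apply, ht, mul_comm]; rfl
  · exact ⟨δW, Subtype.ext hzp⟩

end EtRamInsep
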